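import Groth.Agent.QFCoverLib.Basic

/-!
A faithfully flat finitely presented algebra descends to a faithfully flat finitely presented algebra
over a finitely generated subring.
-/

set_option autoImplicit false
universe u

namespace Groth.Agent.QFCoverLib

open TensorProduct

theorem exists_faithfullyFlat_model (B C : Type u) [CommRing B] [CommRing C] [Algebra B C]
    [Algebra.FinitePresentation B C] [Module.FaithfullyFlat B C] :
    ∃ (B₂ : Subalgebra ℤ B) (C₂ : Type u) (_ : CommRing C₂) (_ : Algebra B₂ C₂), B₂.FG ∧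
      Algebra.FinitePresentation B₂ C₂ ∧ Module.FaithfullyFlat B₂ C₂ ∧
      Nonempty (C ≃ₐ[B] B ⊗[B₂] C₂) := by
  classical
  obtain ⟨B₁, C₀, i1, i2, hB₁, hfp, hflat, ⟨e⟩⟩ := FppfSrc.exists_flat_model B C
  have hU : IsOpen (Set.range (PrimeSpectrum.comap (algebraMap B₁ C₀))) :=
    (PrimeSpectrum.isOpenMap_comap_of_hasGoingDown_of_finitePresentation).isOpen_range
  obtain ⟨J, hJ⟩ := (PrimeSpectrum.isClosed_iff_zeroLocus_ideal _).mp hU.isClosed_compl
  have hsurj : ∀ x : PrimeSpectrum B, PrimeSpectrum.comap (algebraMap B₁ B) x ∈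
      Set.range (PrimeSpectrum.comap (algebraMap B₁ C₀)) := fun x => by
    obtain ⟨y, hy⟩ := PrimeSpectrum.comap_surjective_of_faithfullyFlat (A := B) (B := C) x
    let g : C₀ →ₐ[B₁] C :=
      ((e.symm : B ⊗[B₁] C₀ →ₐ[B] C).restrictScalars B₁).comp Algebra.TensorProduct.includeRight
    refine ⟨PrimeSpectrum.comap g.toRingHom y, ?_⟩
    rw [← hy, ← PrimeSpectrum.comap_comp_apply, ← PrimeSpectrum.comap_comp_apply]
    exact congrArg (fun f => PrimeSpectrum.comap f y)
      (g.comp_algebraMap.trans (IsScalarTower.algebraMap_eq B₁ B C))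
  have htop : J.map (algebraMap B₁ B) = ⊤ := by
    by_contra hne
    obtain ⟨M, hM, hle⟩ := Ideal.exists_le_maximal _ hne
    have h1 : PrimeSpectrum.comap (algebraMap B₁ B) ⟨M, hM.isPrime⟩ ∈
        PrimeSpectrum.zeroLocus (J : Set B₁) :=
      (PrimeSpectrum.mem_zeroLocus _ _).mpr (Ideal.map_le_iff_le_comap.mp hle)
    rw [← hJ] at h1
    exact h1 (hsurj _)
  obtain ⟨k, c, a, hsum⟩ := Submodule.mem_span_set'.mp
    (htop.ge (Submodule.mem_top : (1 : B) ∈ ⊤))
  choose j hj hja using fun i => (a i).2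
  let B₂ : Subalgebra ℤ B := B₁ ⊔ Algebra.adjoin ℤ (Set.range c)
  have hB₂ : B₂.FG := hB₁.sup (Subalgebra.fg_def.mpr ⟨_, Set.finite_range c, rfl⟩)
  have hle : B₁ ≤ B₂ := le_sup_left
  letI algB : Algebra B₁ B₂ := (Subalgebra.inclusion hle).toRingHom.toAlgebra
  haveI : IsScalarTower B₁ B₂ B := .of_algebraMap_eq fun _ => rfl
  have htop₂ : J.map (algebraMap B₁ B₂) = ⊤ := by
    rw [Ideal.eq_top_iff_one]
    have h1 : (1 : B₂) = ∑ i, (⟨c i, (le_sup_right : _ ≤ B₂)
        (Algebra.subset_adjoin ⟨i, rfl⟩)⟩ : B₂) * algebraMap B₁ B₂ (j i) := by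
      apply Subtype.ext
      push_cast
      rw [← hsum]
      exact Finset.sum_congr rfl fun i _ => by rw [smul_eq_mul, ← hja i]; rfl
    rw [h1]
    exact sum_mem fun i _ => Ideal.mul_mem_left _ _ (Ideal.mem_map_of_mem _ (hj i))
  let C₂ := B₂ ⊗[B₁] C₀
  haveI : Module.Flat B₂ C₂ := Module.Flat.baseChange B₁ B₂ C₀
  refine ⟨B₂, C₂, inferInstance, inferInstance, hB₂, inferInstance, ?_,
    ⟨e.trans (Algebra.TensorProduct.cancelBaseChange B₁ B₂ B B C₀).symm⟩⟩
  refine Module.FaithfullyFlat.of_comap_surjective fun x => ?_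
  set u := PrimeSpectrum.comap (algebraMap B₁ B₂) x with hu'
  have hu : u ∈ Set.range (PrimeSpectrum.comap (algebraMap B₁ C₀)) := by
    by_contra hn
    have h1 : u ∈ PrimeSpectrum.zeroLocus (J : Set B₁) := hJ ▸ hn
    have h2 : J.map (algebraMap B₁ B₂) ≤ x.asIdeal :=
      Ideal.map_le_iff_le_comap.mpr ((PrimeSpectrum.mem_zeroLocus _ _).mp h1)
    rw [htop₂] at h2
    exact x.isPrime.ne_top (top_le_iff.mp h2)
  haveI : Nontrivial (u.asIdeal.ResidueField ⊗[B₁] C₀) :=
    (PrimeSpectrum.nontrivial_iff_mem_rangeComap u).mpr hu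
  let ψ : u.asIdeal.ResidueField →ₐ[B₁] x.asIdeal.ResidueField :=
    Ideal.ResidueField.mapₐ u.asIdeal x.asIdeal (Algebra.ofId B₁ B₂) rfl
  letI algκ : Algebra u.asIdeal.ResidueField x.asIdeal.ResidueField := ψ.toRingHom.toAlgebra
  haveI : IsScalarTower B₁ u.asIdeal.ResidueField x.asIdeal.ResidueField :=
    .of_algebraMap_eq fun r => (ψ.commutes r).symm
  haveI : Nontrivial (x.asIdeal.ResidueField ⊗[B₁] C₀) :=
    (Algebra.TensorProduct.cancelBaseChange B₁ u.asIdeal.ResidueField x.asIdeal.ResidueField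
      x.asIdeal.ResidueField C₀).toEquiv.symm.nontrivial
  haveI : Nontrivial (x.asIdeal.ResidueField ⊗[B₂] C₂) :=
    (Algebra.TensorProduct.cancelBaseChange B₁ B₂ x.asIdeal.ResidueField
      x.asIdeal.ResidueField C₀).toEquiv.nontrivial
  exact (PrimeSpectrum.nontrivial_iff_mem_rangeComap x).mp inferInstance

end Groth.Agent.QFCoverLib
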