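import Mathlib
import Groth.Agent.S9432

/-!
# Quasi-finite fppf refinements of fppf covers, for schemes
-/

set_option autoImplicit false
set_option linter.style.haveILetI false

universe u

namespace Groth.Agent.QFCoverLib

open CategoryTheory CategoryTheory.Limits AlgebraicGeometry

/-- An fppf cover of an affine scheme by an affine scheme is dominated by a locally quasi-finite one. -/
theorem exists_affine_qf_of_affine {W U : Scheme.{u}} [IsAffine W] [IsAffine U] (q : W ⟶ U)
    [Flat q] [LocallyOfFinitePresentation q] [Surjective q] :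
    ∃ (T : Scheme.{u}) (k : T ⟶ W), IsAffine T ∧ Flat (k ≫ q) ∧ LocallyOfFinitePresentation (k ≫ q) ∧
      LocallyQuasiFinite (k ≫ q) ∧ Surjective (k ≫ q) := by
  algebraize [q.appTop.hom]
  haveI : Module.Flat Γ(U, ⊤) Γ(W, ⊤) :=
    (HasRingHomProperty.iff_of_isAffine (P := @Flat) (f := q)).1 inferInstance
  haveI : Algebra.FinitePresentation Γ(U, ⊤) Γ(W, ⊤) :=
    (HasRingHomProperty.iff_of_isAffine (P := @LocallyOfFinitePresentation) (f := q)).1 inferInstance
  haveI : Module.FaithfullyFlat Γ(U, ⊤) Γ(W, ⊤) := by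
    have h : Surjective (Spec.map q.appTop) := by
      rw [show Spec.map q.appTop = W.isoSpec.inv ≫ q ≫ U.isoSpec.hom by
        rw [← Scheme.isoSpec_hom_naturality, Iso.inv_hom_id_assoc]]
      infer_instance
    exact Module.FaithfullyFlat.of_comap_surjective fun y => h.surj y
  obtain ⟨C, _, _, hqf, -, hff, hfp, ⟨e⟩⟩ := S9432.result Γ(U, ⊤) Γ(W, ⊤)
  refine ⟨Spec (CommRingCat.of C), Spec.map (CommRingCat.ofHom e.toRingHom) ≫ W.isoSpec.inv, inferInstance, ?_⟩
  have he : (Spec.map (CommRingCat.ofHom e.toRingHom) ≫ W.isoSpec.inv) ≫ q =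
      Spec.map (CommRingCat.ofHom (algebraMap Γ(U, ⊤) C)) ≫ U.isoSpec.inv := by
    rw [Category.assoc, ← Scheme.isoSpec_inv_naturality, ← Spec.map_comp_assoc]
    congr 2
    ext a
    exact e.commutes a
  rw [he]
  haveI : Flat (Spec.map (CommRingCat.ofHom (algebraMap Γ(U, ⊤) C))) :=
    Flat.SpecMap_iff.2 (RingHom.flat_algebraMap_iff.2 inferInstance)
  haveI : LocallyOfFinitePresentation (Spec.map (CommRingCat.ofHom (algebraMap Γ(U, ⊤) C))) :=
    (HasRingHomProperty.Spec_iff (P := @LocallyOfFinitePresentation)).2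
      (RingHom.finitePresentation_algebraMap.2 hfp)
  haveI : LocallyQuasiFinite (Spec.map (CommRingCat.ofHom (algebraMap Γ(U, ⊤) C))) :=
    (HasRingHomProperty.Spec_iff (P := @LocallyQuasiFinite)).2
      (RingHom.quasiFinite_algebraMap.2 hqf)
  haveI : Surjective (Spec.map (CommRingCat.ofHom (algebraMap Γ(U, ⊤) C))) :=
    ⟨PrimeSpectrum.comap_surjective_of_faithfullyFlat⟩
  exact ⟨inferInstance, inferInstance, inferInstance, inferInstance⟩

/-- A flat lfp surjection onto an affine scheme is dominated by an affine locally quasi-finite one. -/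
theorem exists_affine_qf {Y U : Scheme.{u}} [IsAffine U] (g : Y ⟶ U)
    [Flat g] [LocallyOfFinitePresentation g] [Surjective g] :
    ∃ (T : Scheme.{u}) (k : T ⟶ Y), IsAffine T ∧ Flat (k ≫ g) ∧ LocallyOfFinitePresentation (k ≫ g) ∧
      LocallyQuasiFinite (k ≫ g) ∧ Surjective (k ≫ g) := by
  haveI : UniversallyOpen g := inferInstance
  choose V hV hmem using fun y : Y => exists_isAffineOpen_mem_and_subset (X := Y) (x := y) (U := ⊤) trivial
  have hop : ∀ y, IsOpen (g '' (V y : Set Y)) := fun y => g.isOpenMap _ (V y).isOpen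
  obtain ⟨s, hs⟩ := CompactSpace.isCompact_univ.elim_finite_subcover _ hop (fun u _ => by
    obtain ⟨y, hy⟩ := g.surjective u
    exact Set.mem_iUnion.2 ⟨y, y, hmem y |>.1, hy⟩)
  let Ws : {y // y ∈ s} → Scheme.{u} := fun i => (V i.1).toScheme
  haveI : ∀ i, IsAffine (Ws i) := fun i => hV i.1
  let p : ∐ Ws ⟶ Y := Sigma.desc fun i => (V i.1).ι
  let q : ∐ Ws ⟶ U := Sigma.desc fun i => (V i.1).ι ≫ g
  have hpq : p ≫ g = q := Sigma.hom_ext _ _ fun i => by simp [p, q]
  haveI : Flat q := IsZariskiLocalAtSource.sigmaDesc fun _ => inferInstance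
  haveI : LocallyOfFinitePresentation q := IsZariskiLocalAtSource.sigmaDesc fun _ => inferInstance
  haveI : Surjective q := Surjective.sigmaDesc_of_union_range_eq_univ (by
    rw [Set.eq_univ_iff_forall]
    intro u
    obtain ⟨y, hy, z, hz, rfl⟩ := Set.mem_iUnion₂.1 (hs (Set.mem_univ u))
    exact Set.mem_iUnion.2 ⟨⟨y, hy⟩, ⟨z, hz⟩, rfl⟩)
  obtain ⟨T, k, hT, h⟩ := exists_affine_qf_of_affine q
  refine ⟨T, k ≫ p, hT, ?_⟩
  rwa [Category.assoc, hpq]

/-- A flat lfp surjection is dominated by a locally quasi-finite one; affine if the base is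
quasi-compact. -/
theorem exists_qf {X S : Scheme.{u}} (f : X ⟶ S)
    [Flat f] [LocallyOfFinitePresentation f] [Surjective f] :
    ∃ (S' : Scheme.{u}) (g : S' ⟶ S) (h : S' ⟶ X), h ≫ f = g ∧ Flat g ∧ LocallyOfFinitePresentation g ∧
      LocallyQuasiFinite g ∧ Surjective g ∧ (CompactSpace S → IsAffine S') := by
  obtain ⟨I, hI, hIfin⟩ : ∃ I : Set S.affineOpens, (∀ s : S, ∃ U ∈ I, s ∈ (U : S.Opens)) ∧
      (CompactSpace S → I.Finite) := by
    by_cases hS : CompactSpace S
    · choose U hU hmem using fun s : S => exists_isAffineOpen_mem_and_subset (X := S) (x := s) (U := ⊤) trivial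
      obtain ⟨t, ht⟩ := CompactSpace.isCompact_univ.elim_finite_subcover (fun s => (U s : Set S))
        (fun s => (U s).isOpen) (fun s _ => Set.mem_iUnion.2 ⟨s, (hmem s).1⟩)
      refine ⟨(fun s => (⟨U s, hU s⟩ : S.affineOpens)) '' t, fun s => ?_, fun _ => t.finite_toSet.image _⟩
      obtain ⟨i, hi, hs⟩ := Set.mem_iUnion₂.1 (ht (Set.mem_univ s))
      exact ⟨_, ⟨i, hi, rfl⟩, hs⟩
    · refine ⟨Set.univ, fun s => ?_, fun h => absurd h hS⟩
      obtain ⟨U, hU, hmem, -⟩ := exists_isAffineOpen_mem_and_subset (X := S) (x := s) (U := ⊤) trivial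
      exact ⟨⟨U, hU⟩, trivial, hmem⟩
  choose T k hT hfl hfp hqf hsu using fun U : I =>
    haveI : IsAffine (U.1.1 : S.Opens) := U.1.2
    haveI : Surjective (f ∣_ U.1.1) := IsZariskiLocalAtTarget.restrict ‹Surjective f› _
    exists_affine_qf (f ∣_ U.1.1)
  let g : ∐ T ⟶ S := Sigma.desc fun U => (k U ≫ f ∣_ U.1.1) ≫ U.1.1.ι
  refine ⟨∐ T, g, Sigma.desc fun U => k U ≫ (f ⁻¹ᵁ U.1.1).ι, Sigma.hom_ext _ _ fun U => by
    simp [g, morphismRestrict_ι], ?_, ?_, ?_, ?_, fun hS => ?_⟩
  · exact IsZariskiLocalAtSource.sigmaDesc fun U => by haveI := hfl U; infer_instance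
  · exact IsZariskiLocalAtSource.sigmaDesc fun U => by haveI := hfp U; infer_instance
  · exact IsZariskiLocalAtSource.sigmaDesc fun U => by haveI := hqf U; infer_instance
  · refine Surjective.sigmaDesc_of_union_range_eq_univ (Set.eq_univ_iff_forall.2 fun s => ?_)
    obtain ⟨U, hU, hs⟩ := hI s
    obtain ⟨t, ht⟩ := (hsu ⟨U, hU⟩).surj ⟨s, hs⟩
    exact Set.mem_iUnion.2 ⟨⟨U, hU⟩, t, congrArg (U : S.Opens).ι ht⟩
  · haveI := (hIfin hS).to_subtype
    infer_instance

end Groth.Agent.QFCoverLib
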