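import Mathlib
import Groth.Agent.QFCoverLib.Model

/-!
# Finite type and finite presentation descend along faithfully flat, finitely presented algebras
-/

set_option autoImplicit false
set_option linter.style.haveILetI false

universe u

namespace Groth.Agent.QFCoverLib

open TensorProduct

variable {R A B : Type u} [CommRing R] [CommRing A] [CommRing B] [Algebra R A] [Algebra A B]
  [Algebra R B] [IsScalarTower R A B]

/-- Given a model `B ≅ A ⊗ C₀` and generators of `B`, finitely many elements of `A` such that any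
`A₀`-algebra map hitting them and `R` is surjective. -/
theorem exists_surjectivity_criterion [Algebra.FiniteType R B] (A₀ : Type u) [CommRing A₀] [Algebra A₀ A]
    (C₀ : Type u) [CommRing C₀] [Algebra A₀ C₀] [Module.FaithfullyFlat A₀ C₀] (e : B ≃ₐ[A] A ⊗[A₀] C₀) :
    ∃ G : Finset A, ∀ (P : Type u) [CommRing P] [Algebra A₀ P] (φ : P →ₐ[A₀] A),
      (G : Set A) ⊆ Set.range φ → Set.range (algebraMap R A) ⊆ Set.range φ → Function.Surjective φ := by
  classical
  obtain ⟨s, hs⟩ := (Algebra.FiniteType.out : (⊤ : Subalgebra R B).FG)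
  choose T hT using fun b : B => TensorProduct.exists_finset (e b)
  refine ⟨s.biUnion fun b => (T b).image Prod.fst, fun P _ _ φ hG hR => ?_⟩
  let g := Algebra.TensorProduct.map φ (AlgHom.id A₀ C₀)
  have hg : ∀ b : B, e b ∈ g.range := fun b => by
    have hb : b ∈ Algebra.adjoin R (s : Set B) := hs ▸ Algebra.mem_top
    induction hb using Algebra.adjoin_induction with
    | mem x hx =>
      rw [hT x]
      refine sum_mem fun i hi => ?_
      obtain ⟨q, hq⟩ := hG (Finset.mem_coe.2 (Finset.mem_biUnion.2 ⟨x, hx, Finset.mem_image_of_mem _ hi⟩))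
      exact ⟨q ⊗ₜ i.2, by simp [g, hq]⟩
    | algebraMap r =>
      obtain ⟨q, hq⟩ := hR ⟨r, rfl⟩
      refine ⟨q ⊗ₜ 1, ?_⟩
      rw [IsScalarTower.algebraMap_apply R A B, AlgEquiv.commutes]
      simp [g, hq]
    | add x y _ _ hx hy => rw [map_add]; exact add_mem hx hy
    | mul x y _ _ hx hy => rw [map_mul]; exact mul_mem hx hy
  have h1 : Function.Surjective (φ.toLinearMap.rTensor C₀) := fun z => by
    obtain ⟨w, hw⟩ := hg (e.symm z)
    exact ⟨w, hw.trans (e.apply_symm_apply z)⟩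
  refine (Module.FaithfullyFlat.lTensor_surjective_iff_surjective A₀ C₀ (f := φ.toLinearMap)).1 fun z => ?_
  obtain ⟨w, hw⟩ := h1 (TensorProduct.comm _ _ _ z)
  refine ⟨TensorProduct.comm _ _ _ w, (TensorProduct.comm A₀ C₀ A).injective ?_⟩
  rw [← hw, LinearMap.lTensor, LinearMap.rTensor, TensorProduct.map_comm]
  simp

theorem finiteType_of_ff [Algebra.FiniteType R B]
    [Module.FaithfullyFlat A B] [Algebra.FinitePresentation A B] : Algebra.FiniteType R A := by
  classical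
  obtain ⟨A₀, C₀, i1, i2, ⟨t, ht⟩, -, hff, ⟨e⟩⟩ := exists_faithfullyFlat_model A B
  obtain ⟨G, hG⟩ := exists_surjectivity_criterion (R := R) A₀ C₀ e
  let A' : Subalgebra R A := Algebra.adjoin R ((G ∪ t : Finset A) : Set A)
  have hle : ∀ a : A₀, (a : A) ∈ A' := fun a => by
    have h : A₀ ≤ A'.restrictScalars ℤ := ht ▸ Algebra.adjoin_le fun x hx =>
      Algebra.subset_adjoin (Finset.mem_coe.2 (Finset.mem_union_right _ hx))
    exact h a.2
  letI : Algebra A₀ A' := ((A₀.val.toRingHom).codRestrict A' hle).toAlgebra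
  let φ : A' →ₐ[A₀] A := { toRingHom := A'.val.toRingHom, commutes' := fun _ => rfl }
  have h := hG A' φ (fun x hx => ⟨⟨x, Algebra.subset_adjoin (Finset.mem_coe.2 (Finset.mem_union_left _ hx))⟩, rfl⟩)
    (by rintro _ ⟨r, rfl⟩; exact ⟨algebraMap R A' r, rfl⟩)
  exact ⟨⟨G ∪ t, eq_top_iff.2 fun x _ => by obtain ⟨y, rfl⟩ := h x; exact y.2⟩⟩

theorem finitePresentation_of_ff [Algebra.FinitePresentation R B]
    [Module.FaithfullyFlat A B] [Algebra.FinitePresentation A B] : Algebra.FinitePresentation R A := by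
  classical
  haveI : Algebra.FiniteType R A := finiteType_of_ff (B := B)
  obtain ⟨A₀, C₀, i1, i2, hA₀, hfp, hff, ⟨e⟩⟩ := exists_faithfullyFlat_model A B
  obtain ⟨n, φ, hφ⟩ := Algebra.FiniteType.iff_quotient_mvPolynomial''.1 (inferInstance : Algebra.FiniteType R A)
  haveI : Algebra.FiniteType ℤ A₀ := (Subalgebra.fg_iff_finiteType A₀).1 hA₀
  obtain ⟨m, π, hπ⟩ := Algebra.FiniteType.iff_quotient_mvPolynomial''.1 (inferInstance : Algebra.FiniteType ℤ A₀)
  choose y hy using fun i => hφ (π (MvPolynomial.X i) : A)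
  let χ : MvPolynomial (Fin m) ℤ →+* MvPolynomial (Fin n) R := (MvPolynomial.aeval y).toRingHom
  have hχ : φ.toRingHom.comp χ = A₀.val.toRingHom.comp π.toRingHom :=
    MvPolynomial.ringHom_ext (fun r => by simp [χ]) (fun i => by simpa [χ] using hy i)
  let J₀ : Ideal (MvPolynomial (Fin n) R) := (RingHom.ker π).map χ
  have hJ₀ : J₀ ≤ RingHom.ker φ := Ideal.map_le_iff_le_comap.2 fun x hx => by
    have h := RingHom.congr_fun hχ x
    simp only [RingHom.comp_apply] at h
    rw [Ideal.mem_comap, RingHom.mem_ker]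
    refine h.trans ?_
    rw [RingHom.mem_ker] at hx
    simp [hx]
  haveI : Algebra.FinitePresentation R (MvPolynomial (Fin n) R ⧸ J₀) :=
    Algebra.FinitePresentation.quotient (Ideal.FG.map (IsNoetherian.noetherian (RingHom.ker π)) χ)
  let ψ : A₀ →+* MvPolynomial (Fin n) R ⧸ J₀ := π.toRingHom.liftOfSurjective hπ
    ⟨(Ideal.Quotient.mk J₀).comp χ, fun x hx => Ideal.Quotient.eq_zero_iff_mem.2 (Ideal.mem_map_of_mem χ hx)⟩
  letI := ψ.toAlgebra
  let φ₁ : (MvPolynomial (Fin n) R ⧸ J₀) →ₐ[R] A := Ideal.Quotient.liftₐ J₀ φ hJ₀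
  have hφ₁ : ∀ a : A₀, φ₁ (ψ a) = a := fun a => by
    obtain ⟨x, rfl⟩ := hπ a
    rw [show ψ (π x) = Ideal.Quotient.mk J₀ (χ x) from RingHom.liftOfSurjective_comp_apply _ hπ _ x]
    exact RingHom.congr_fun hχ x
  let φ₂ : (MvPolynomial (Fin n) R ⧸ J₀) →ₐ[A₀] A := { toRingHom := φ₁.toRingHom, commutes' := hφ₁ }
  have hφ₂ : Function.Surjective φ₂ := fun a => by
    obtain ⟨x, rfl⟩ := hφ a
    exact ⟨Ideal.Quotient.mk J₀ x, rfl⟩
  haveI : SMulCommClass A₀ R (MvPolynomial (Fin n) R ⧸ J₀) :=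
    ⟨fun a r x => mul_smul_comm r (ψ a) x⟩
  haveI : Algebra.FinitePresentation R ((MvPolynomial (Fin n) R ⧸ J₀) ⊗[A₀] C₀) :=
    Algebra.FinitePresentation.trans R (MvPolynomial (Fin n) R ⧸ J₀) ((MvPolynomial (Fin n) R ⧸ J₀) ⊗[A₀] C₀)
  let m' := Algebra.TensorProduct.map φ₂ (AlgHom.id A₀ C₀)
  let g : (MvPolynomial (Fin n) R ⧸ J₀) ⊗[A₀] C₀ →ₐ[R] B :=
    { toRingHom := e.symm.toRingHom.comp m'.toRingHom
      commutes' := fun r => by
        show e.symm (φ₁ (algebraMap R _ r) ⊗ₜ (1 : C₀)) = algebraMap R B r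
        rw [AlgHom.commutes, IsScalarTower.algebraMap_apply R A B]
        exact e.symm.commutes _ }
  have hgs : Function.Surjective g := e.symm.surjective.comp
    (Algebra.TensorProduct.map_surjective φ₂ (AlgHom.id A₀ C₀) hφ₂ Function.surjective_id)
  let ι : (MvPolynomial (Fin n) R ⧸ J₀) →+* (MvPolynomial (Fin n) R ⧸ J₀) ⊗[A₀] C₀ :=
    Algebra.TensorProduct.includeLeftRingHom
  have hker : (RingHom.ker g.toRingHom) = (RingHom.ker φ₂).map ι := by
    refine Eq.trans ?_ (Algebra.TensorProduct.rTensor_ker φ₂ hφ₂)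
    ext x
    simp only [RingHom.mem_ker]
    exact e.symm.map_eq_zero_iff
  have hK := Algebra.FinitePresentation.ker_fG_of_surjective (R := R) (A := (MvPolynomial (Fin n) R ⧸ J₀) ⊗[A₀] C₀) (B := B) g hgs
  rw [hker] at hK
  obtain ⟨s, hs⟩ := hK
  obtain ⟨K', hK', hle, hK'map⟩ : ∃ K' : Ideal (MvPolynomial (Fin n) R ⧸ J₀), K'.FG ∧ K' ≤ RingHom.ker φ₂ ∧
      (RingHom.ker φ₂).map ι ≤ K'.map ι := by
    have hfin : ∀ z ∈ s, ∃ t : Finset (MvPolynomial (Fin n) R ⧸ J₀), (t : Set (MvPolynomial (Fin n) R ⧸ J₀)) ⊆ ↑(RingHom.ker φ₂) ∧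
        z ∈ (Ideal.span (t : Set (MvPolynomial (Fin n) R ⧸ J₀))).map ι := fun z hz => by
      have hz' : z ∈ Ideal.span (ι '' ↑(RingHom.ker φ₂)) := by
        show z ∈ (RingHom.ker φ₂).map ι
        rw [← hs]; exact Submodule.subset_span hz
      obtain ⟨u, hu, hzu⟩ := Submodule.mem_span_finite_of_mem_span hz'
      obtain ⟨t, ht, htu⟩ := Finset.subset_set_image_iff.1 hu
      refine ⟨t, ht, ?_⟩
      rw [Ideal.map_span, ← Finset.coe_image, htu]
      exact hzu
    choose t ht1 ht2 using hfin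
    refine ⟨Ideal.span (↑(s.attach.biUnion fun z => t z.1 z.2) : Set (MvPolynomial (Fin n) R ⧸ J₀)), ⟨_, rfl⟩, ?_, ?_⟩
    · refine Ideal.span_le.2 fun x hx => ?_
      obtain ⟨z, -, hz⟩ := Finset.mem_biUnion.1 (Finset.mem_coe.1 hx)
      exact ht1 z.1 z.2 hz
    · rw [← hs]
      refine Ideal.span_le.2 fun z hz => ?_
      refine Ideal.map_mono (Ideal.span_mono ?_) (ht2 z hz)
      exact fun x hx => Finset.mem_coe.2 (Finset.mem_biUnion.2 ⟨⟨z, hz⟩, Finset.mem_attach _ _, hx⟩)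
  have hK : RingHom.ker φ₂ = K' := by
    refine le_antisymm (fun x hx => ?_) hle
    rw [← K'.comap_map_eq_self_of_faithfullyFlat (B := (MvPolynomial (Fin n) R ⧸ J₀) ⊗[A₀] C₀)]
    exact hK'map (Ideal.mem_map_of_mem _ hx)
  exact Algebra.FinitePresentation.of_surjective (f := φ₁) hφ₂ (by rw [show RingHom.ker φ₁.toRingHom = RingHom.ker φ₂ from rfl, hK]; exact hK')

end Groth.Agent.QFCoverLib
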