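import Groth.Agent.FppfSrc.FlatModel
import Groth.Agent.FlatLocus.Main
import Groth.Agent.FlatLocus.Gen
import Groth.Agent.QGorLib.FlatDepth

/-!
Flat quasi-finite covers: cutting a flat algebra by elements regular on a fibre, until the fibre is
finite.
-/

set_option autoImplicit false
universe u

namespace Groth.Agent.QFCoverLib

open TensorProduct IsLocalRing
open scoped Pointwise

variable {R : Type u} [CommRing R] {S : Type u} [CommRing S] [Algebra R S]

/-- Elements vanishing on the fibre. -/
theorem exists_mul_mem_of_tmul_eq_zero (p : Ideal R) [p.IsPrime] {z : S}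
    (hz : (1 : p.ResidueField) ⊗ₜ[R] z = 0) :
    ∃ r ∉ p, algebraMap R S r * z ∈ p.map (algebraMap R S) := by
  letI : Algebra S (p.Fiber S) := Algebra.TensorProduct.rightAlgebra
  have h0 : algebraMap S (p.Fiber S) z = 0 := hz
  have h1 : algebraMap S (Localization (Algebra.algebraMapSubmonoid S p.primeCompl)) z ∈
      (p.map (algebraMap R S)).map
        (algebraMap S (Localization (Algebra.algebraMapSubmonoid S p.primeCompl))) := by
    rw [← Ideal.Quotient.eq_zero_iff_mem]
    have h2 := congrArg (Ideal.Fiber.algEquivAux₁ (S := S) p) h0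
    rw [AlgEquiv.commutes, map_zero] at h2
    exact h2
  obtain ⟨m, hm, hmz⟩ := (IsLocalization.algebraMap_mem_map_algebraMap_iff
    (Algebra.algebraMapSubmonoid S p.primeCompl) _ _ _).mp h1
  obtain ⟨r, hr, rfl⟩ := hm
  exact ⟨r, hr, hmz⟩

/-- The quotient by an element regular on the fibre is flat at the point. -/
theorem flat_localized_quotient [IsNoetherianRing R] [IsNoetherianRing S] [Module.Flat R S]
    (p : Ideal R) [p.IsPrime] (q : Ideal S) [q.IsPrime] [q.LiesOver p] (s : S)
    (hreg : IsSMulRegular (p.Fiber S) ((1 : p.ResidueField) ⊗ₜ[R] s)) :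
    Module.Flat R (LocalizedModule q.primeCompl (S ⧸ Ideal.span {s})) := by
  let Rp := Localization.AtPrime p
  let Sq := Localization.AtPrime q
  letI := Localization.AtPrime.algebraOfLiesOver p q
  haveI : IsLocalHom (algebraMap Rp Sq) := by
    rw [Localization.AtPrime.IsLiesOverAlgebra.algebraMap_eq]
    exact Localization.isLocalHom_localRingHom _ _ _ _
  have hmap : (maximalIdeal Rp).map (algebraMap Rp Sq) =
      (p.map (algebraMap R S)).map (algebraMap S Sq) := by
    rw [← Localization.AtPrime.map_eq_maximalIdeal, Ideal.map_map, Ideal.map_map,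
      ← IsScalarTower.algebraMap_eq, ← IsScalarTower.algebraMap_eq]
  obtain ⟨-, hflat⟩ := QGorLib.regular_and_flat_of_fibre (R := Rp) (S := Sq) (M := Sq)
    (algebraMap S Sq s) fun x hx => by
      simp only [smul_eq_mul, Ideal.mul_top, hmap] at hx ⊢
      obtain ⟨a, t, rfl⟩ := IsLocalization.exists_mk'_eq q.primeCompl x
      rw [← IsLocalization.mk'_one (M := q.primeCompl) Sq s, ← IsLocalization.mk'_mul,
        IsLocalization.mk'_mem_map_algebraMap_iff] at hx
      obtain ⟨u, hu, hux⟩ := hx
      rw [IsLocalization.mk'_mem_map_algebraMap_iff]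
      have h0 : ∀ y ∈ p.map (algebraMap R S), (1 : p.ResidueField) ⊗ₜ[R] y = 0 := by
        intro y hy
        have hle : p.map (algebraMap R S) ≤
            RingHom.ker (Algebra.TensorProduct.includeRight :
              S →ₐ[R] p.Fiber S).toRingHom := by
          refine Ideal.map_le_iff_le_comap.mpr fun r hr => ?_
          show (1 : p.ResidueField) ⊗ₜ[R] algebraMap R S r = 0
          rw [Algebra.algebraMap_eq_smul_one, ← smul_tmul, Algebra.smul_def, mul_one,
            Ideal.algebraMap_residueField_eq_zero.mpr hr, zero_tmul]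
        exact hle hy
      have h1 : (1 : p.ResidueField) ⊗ₜ[R] (u * a) = 0 := by
        refine hreg.right_eq_zero_of_smul ?_
        rw [smul_eq_mul, Algebra.TensorProduct.tmul_mul_tmul, mul_one,
          show s * (u * a) = u * (s * a) by ring]
        exact h0 _ hux
      obtain ⟨r, hr, hrz⟩ := exists_mul_mem_of_tmul_eq_zero p h1
      refine ⟨algebraMap R S r * u, q.primeCompl.mul_mem ?_ hu, by rwa [mul_assoc]⟩
      intro hrq
      exact hr ((Ideal.mem_of_liesOver q p r).mpr hrq)
  let N := QuotSMulTop (algebraMap S Sq s) Sq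
  haveI : Module.Flat Rp N := hflat
  haveI : Module.Flat R N := Module.Flat.trans R Rp N
  let f := Algebra.linearMap S Sq
  have hloc : Submodule.localized' Sq q.primeCompl f (Ideal.span {s}) =
      algebraMap S Sq s • (⊤ : Submodule Sq Sq) := by
    refine (Submodule.localized'_span Sq q.primeCompl f {s}).trans ?_
    rw [Set.image_singleton, ← Submodule.ideal_span_singleton_smul, smul_eq_mul, Ideal.mul_top]
    rfl
  let g := Submodule.toLocalizedQuotient' Sq q.primeCompl f (Ideal.span {s})
  haveI : IsLocalizedModule q.primeCompl g :=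
    IsLocalizedModule.toLocalizedQuotient' Sq q.primeCompl f _
  exact Module.Flat.of_linearEquiv
    (((IsLocalizedModule.iso q.primeCompl g).restrictScalars R).trans
      ((Submodule.quotEquivOfEq _ _ hloc).restrictScalars R))

/-- Regular on the fibre gives a flat neighbourhood in the hypersurface. -/
theorem exists_flat_away [IsNoetherianRing R] [Algebra.FiniteType R S] [Module.Flat R S]
    (p : Ideal R) [p.IsPrime] (q : Ideal S) [q.IsPrime] [q.LiesOver p] (s : S)
    (hreg : IsSMulRegular (p.Fiber S) ((1 : p.ResidueField) ⊗ₜ[R] s)) :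
    ∃ h ∉ q, Module.Flat R (Localization.Away (Ideal.Quotient.mk (Ideal.span {s}) h)) := by
  haveI := Algebra.FiniteType.isNoetherianRing R S
  haveI : Algebra.FinitePresentation R S := Algebra.FinitePresentation.of_finiteType.mp ‹_›
  haveI : Module.FinitePresentation S (S ⧸ Ideal.span {s}) :=
    Module.finitePresentation_of_finite _ _
  have hU := FlatLocus.isOpen_flat_locus (R := R) (S := S) (M := S ⧸ Ideal.span {s})
  obtain ⟨U, ⟨h, rfl⟩, hhq, hsub⟩ := PrimeSpectrum.isTopologicalBasis_basic_opens.exists_subset_of_mem_open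
    (show (⟨q, ‹_›⟩ : PrimeSpectrum S) ∈ _ from flat_localized_quotient p q s hreg) hU
  refine ⟨h, hhq, ?_⟩
  let h' := Ideal.Quotient.mk (Ideal.span {s}) h
  let g := (IsScalarTower.toAlgHom S (S ⧸ Ideal.span {s}) (Localization.Away h')).toLinearMap
  haveI : IsLocalizedModule (Submonoid.powers h) g := by
    refine isLocalizedModule_iff_isLocalization.mpr ?_
    rw [show Algebra.algebraMapSubmonoid (S ⧸ Ideal.span {s}) (Submonoid.powers h) =
      Submonoid.powers h' from Submonoid.map_powers (algebraMap S (S ⧸ Ideal.span {s})) h]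
    exact inferInstanceAs (IsLocalization (Submonoid.powers h') (Localization.Away h'))
  exact FlatLocus.flat_localized_of_forall_prime (Submonoid.powers h) g fun P _ hP =>
    hsub (show (⟨P, ‹_›⟩ : PrimeSpectrum S) ∈ PrimeSpectrum.basicOpen h from
      fun hh => Set.disjoint_left.mp hP (Submonoid.mem_powers h) hh)

/-- A finite type algebra over a field has finite Krull dimension. -/
theorem exists_ringKrullDim_lt (k A : Type u) [Field k] [CommRing A] [Algebra k A]
    [Algebra.FiniteType k A] : ∃ n : ℕ, ringKrullDim A < n := by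
  obtain ⟨n, f, hf⟩ := Algebra.FiniteType.iff_quotient_mvPolynomial''.mp ‹Algebra.FiniteType k A›
  refine ⟨n + 1, lt_of_le_of_lt (ringKrullDim_le_of_surjective f.toRingHom hf) ?_⟩
  rw [MvPolynomial.ringKrullDim_of_isNoetherianRing, ringKrullDim_eq_zero_of_field, zero_add]
  simp only [Nat.card_eq_fintype_card, Fintype.card_fin]
  exact_mod_cast Nat.lt_succ_self n

/-- In positive dimension some maximal ideal is not associated to the ring. -/
theorem exists_maximal_notMem_associatedPrimes (A : Type u) [CommRing A] [IsNoetherianRing A]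
    [IsJacobsonRing A] (h : ¬ Ring.KrullDimLE 0 A) :
    ∃ m : Ideal A, m.IsMaximal ∧ m ∉ associatedPrimes A A := by
  classical
  by_contra hcon
  push Not at hcon
  refine h (Ring.krullDimLE_zero_iff.mpr fun P hP => ?_)
  have hfin : {M : Ideal A | P ≤ M ∧ M.IsMaximal}.Finite :=
    (associatedPrimes.finite A A).subset fun M hM => hcon M hM.2
  have hle : hfin.toFinset.inf id ≤ P := by
    intro x hx
    rw [← IsJacobsonRing.out inferInstance hP.isRadical]
    refine Ideal.mem_sInf.mpr fun {M} hM => ?_
    exact Finset.inf_le (f := id) (hfin.mem_toFinset.mpr ⟨hM.1, hM.2⟩) hx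
  obtain ⟨M, hM, hMP⟩ := hP.inf_le'.mp hle
  obtain ⟨hPM, hMmax⟩ := hfin.mem_toFinset.mp hM
  rwa [le_antisymm hPM hMP]

/-- An algebra with a finite fibre at `p` gives a quasi-finite neighbourhood. -/
theorem exists_quasiFinite_away [Algebra.FiniteType R S]
    (p : PrimeSpectrum R) [Ring.KrullDimLE 0 (p.asIdeal.Fiber S)]
    (Q : PrimeSpectrum (p.asIdeal.Fiber S)) :
    ∃ r ∉ ((PrimeSpectrum.preimageHomeomorphFiber R S p).symm Q).1.asIdeal,
      Algebra.QuasiFinite R (Localization.Away r) := by
  haveI := Algebra.FiniteType.isNoetherianRing p.asIdeal.ResidueField (p.asIdeal.Fiber S)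
  haveI : IsArtinianRing (p.asIdeal.Fiber S) := IsNoetherianRing.isArtinianRing_of_krullDimLE_zero
  set e := PrimeSpectrum.preimageHomeomorphFiber R S p
  have hopen : IsOpen ({e.symm Q} : Set _) := by
    rw [← Set.image_singleton, e.symm.isOpen_image]
    exact isOpen_discrete _
  haveI : Algebra.QuasiFiniteAt R (e.symm Q).1.asIdeal := by
    refine Algebra.QuasiFiniteAt.of_isOpen_singleton_fiber _ ?_
    generalize e.symm Q = z at hopen
    obtain ⟨z, hz⟩ := z
    cases (Set.mem_singleton_iff.mp hz).symm
    exact hopen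
  obtain ⟨S', hS', r, hrp, H⟩ :=
    Algebra.QuasiFiniteAt.exists_fg_and_exists_notMem_and_awayMap_bijective (R := R)
      (e.symm Q).1.asIdeal
  haveI : Module.Finite R S' := ⟨(Submodule.fg_top _).mpr hS'⟩
  haveI : Algebra.QuasiFinite R (Localization.Away r) := .trans _ S' _
  exact ⟨r.1, hrp, .of_surjective_algHom (Localization.awayMapₐ S'.val r) H.2⟩

theorem comap_includeRight_injective (p : PrimeSpectrum R) :
    Function.Injective (PrimeSpectrum.comap (Algebra.TensorProduct.includeRight :
      S →ₐ[R] p.asIdeal.Fiber S).toRingHom) := fun a b hab =>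
  (PrimeSpectrum.preimageOrderIsoFiber R S p).symm.injective (Subtype.ext hab)

/-- The inductive step and conclusion at a point. -/
theorem exists_quasiFinite_at [IsNoetherianRing R] (p : PrimeSpectrum R) : ∀ (n : ℕ) (S : Type u)
    [CommRing S] [Algebra R S] [Algebra.FiniteType R S] [Module.Flat R S]
    [Nontrivial (p.asIdeal.Fiber S)], ringKrullDim (p.asIdeal.Fiber S) < n →
    ∃ (T : Type u) (_ : CommRing T) (_ : Algebra R T), Algebra.FiniteType R T ∧ Module.Flat R T ∧
      Algebra.QuasiFinite R T ∧ p ∈ Set.range (PrimeSpectrum.comap (algebraMap R T)) ∧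
      Nonempty (S →ₐ[R] T)
  | 0, S, _, _, _, _, _, h => absurd h (not_lt.mpr ringKrullDim_nonneg_of_nontrivial)
  | n + 1, S, _, _, _, _, _, h => by
    classical
    let A := p.asIdeal.Fiber S
    haveI : IsNoetherianRing A := Algebra.FiniteType.isNoetherianRing p.asIdeal.ResidueField A
    haveI : IsJacobsonRing A := isJacobsonRing_of_finiteType (A := p.asIdeal.ResidueField)
    haveI : IsNoetherianRing S := Algebra.FiniteType.isNoetherianRing R S
    by_cases h0 : Ring.KrullDimLE 0 A
    · obtain ⟨Q⟩ : Nonempty (PrimeSpectrum A) := inferInstance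
      obtain ⟨r, hr, hqf⟩ := exists_quasiFinite_away p Q
      set q := ((PrimeSpectrum.preimageHomeomorphFiber R S p).symm Q) with hq
      refine ⟨Localization.Away r, inferInstance, inferInstance,
        .trans ‹_› (IsLocalization.finiteType_of_monoid_fg (.powers r) _),
        inferInstance, hqf, ?_, ⟨IsScalarTower.toAlgHom R S _⟩⟩
      obtain ⟨q', hq'⟩ : q.1 ∈ Set.range
          (PrimeSpectrum.comap (algebraMap S (Localization.Away r))) := by
        rw [PrimeSpectrum.localization_away_comap_range _ r]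
        exact hr
      refine ⟨q', ?_⟩
      rw [IsScalarTower.algebraMap_eq R S, PrimeSpectrum.comap_comp_apply, hq']
      exact q.2
    obtain ⟨m, hm, hmass⟩ := exists_maximal_notMem_associatedPrimes A h0
    let e := PrimeSpectrum.preimageOrderIsoFiber R S p
    let ι : S →+* A := (Algebra.TensorProduct.includeRight : S →ₐ[R] A).toRingHom
    have hnot : ¬ ((m.comap ι : Ideal S) : Set S) ⊆
        ⋃ P ∈ (↑(associatedPrimes.finite A A).toFinset : Set (Ideal A)), (P.comap ι : Set S) := by
      rw [Ideal.subset_union_prime ⊤ ⊤ fun P hP _ _ => by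
        haveI := ((associatedPrimes.finite A A).mem_toFinset.mp hP).isPrime
        exact Ideal.IsPrime.comap ι]
      rintro ⟨P, hP, hle⟩
      have hP' := (associatedPrimes.finite A A).mem_toFinset.mp hP
      have h2 : (⟨m, hm.isPrime⟩ : PrimeSpectrum A) ≤ ⟨P, hP'.isPrime⟩ :=
        e.symm.le_iff_le.mp hle
      exact hmass ((hm.eq_of_le hP'.isPrime.ne_top h2).symm ▸ hP')
    obtain ⟨s, hsm, hs⟩ := Set.not_subset.mp hnot
    have hreg : IsSMulRegular A ((1 : p.asIdeal.ResidueField) ⊗ₜ[R] s) := by
      by_contra hns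
      have : (1 : p.asIdeal.ResidueField) ⊗ₜ[R] s ∈ ⋃ P ∈ associatedPrimes A A, (P : Set A) := by
        rw [biUnion_associatedPrimes_eq_compl_regular]
        exact hns
      obtain ⟨P, hP, hsP⟩ := Set.mem_iUnion₂.mp this
      exact hs (Set.mem_iUnion₂.mpr ⟨P, (associatedPrimes.finite A A).mem_toFinset.mpr hP, hsP⟩)
    let q := (e.symm ⟨m, hm.isPrime⟩).1
    haveI : q.asIdeal.LiesOver p.asIdeal :=
      ⟨(congrArg PrimeSpectrum.asIdeal (e.symm ⟨m, hm.isPrime⟩).2).symm⟩
    obtain ⟨hh, hhq, hflat⟩ := exists_flat_away p.asIdeal q.asIdeal s hreg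
    let S' := S ⧸ Ideal.span {s}
    let S₁ := Localization.Away (Ideal.Quotient.mk (Ideal.span {s}) hh)
    let f : S →ₐ[R] S₁ := (IsScalarTower.toAlgHom R S' S₁).comp (Ideal.Quotient.mkₐ R _)
    haveI : Module.Flat R S₁ := hflat
    haveI : Algebra.FiniteType R S₁ := .trans (inferInstance : Algebra.FiniteType R S')
      (IsLocalization.finiteType_of_monoid_fg (.powers (Ideal.Quotient.mk (Ideal.span {s}) hh)) _)
    have hfinj : Function.Injective (PrimeSpectrum.comap f.toRingHom) := fun a b hab =>
      PrimeSpectrum.localization_comap_injective S₁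
        (Submonoid.powers (Ideal.Quotient.mk (Ideal.span {s}) hh))
        (PrimeSpectrum.comap_injective_of_surjective _ Ideal.Quotient.mk_surjective hab)
    obtain ⟨q₁, hq₁⟩ : q ∈ Set.range (PrimeSpectrum.comap f.toRingHom) := by
      have hsq : Ideal.span {s} ≤ q.asIdeal := (Ideal.span_singleton_le_iff_mem _).mpr hsm
      obtain ⟨q', hq'⟩ : q ∈ Set.range
          (PrimeSpectrum.comap (Ideal.Quotient.mk (Ideal.span {s}))) := by
        rw [range_comap_of_surjective _ _ Ideal.Quotient.mk_surjective, Ideal.mk_ker]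
        exact (PrimeSpectrum.mem_zeroLocus _ _).mpr hsq
      obtain ⟨q'', hq''⟩ : q' ∈ Set.range (PrimeSpectrum.comap (algebraMap S' S₁)) := by
        rw [PrimeSpectrum.localization_away_comap_range _ (Ideal.Quotient.mk (Ideal.span {s}) hh)]
        intro hc
        apply hhq
        rw [← hq']
        exact hc
      exact ⟨q'', by rw [← hq', ← hq'']; rfl⟩
    haveI : Nontrivial (p.asIdeal.Fiber S₁) := by
      refine (PrimeSpectrum.nontrivial_iff_mem_rangeComap p).mpr ⟨q₁, ?_⟩
      rw [← f.comp_algebraMap, PrimeSpectrum.comap_comp_apply]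
      exact (congrArg (PrimeSpectrum.comap (algebraMap R S)) hq₁).trans
        (e.symm ⟨m, hm.isPrime⟩).2
    let φ : A →ₐ[R] p.asIdeal.Fiber S₁ := Algebra.TensorProduct.map (AlgHom.id R _) f
    let g := (1 : p.asIdeal.ResidueField) ⊗ₜ[R] s
    have hφg : φ g = 0 := by
      show (1 : p.asIdeal.ResidueField) ⊗ₜ[R] f s = 0
      have : (Ideal.Quotient.mk (Ideal.span {s})) s = 0 :=
        Ideal.Quotient.eq_zero_iff_mem.mpr (Ideal.mem_span_singleton_self s)
      show (1 : p.asIdeal.ResidueField) ⊗ₜ[R] algebraMap S' S₁ (Ideal.Quotient.mk _ s) = 0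
      rw [this, map_zero, tmul_zero]
    have hinj : Function.Injective (PrimeSpectrum.comap φ.toRingHom) := fun a b hab => by
      refine comap_includeRight_injective p (hfinj ?_)
      have hcomm : φ.toRingHom.comp ι =
          (Algebra.TensorProduct.includeRight : S₁ →ₐ[R] p.asIdeal.Fiber S₁).toRingHom.comp
            f.toRingHom := RingHom.ext fun x => rfl
      have := congrArg (PrimeSpectrum.comap ι) hab
      rwa [← PrimeSpectrum.comap_comp_apply, ← PrimeSpectrum.comap_comp_apply, hcomm,
        PrimeSpectrum.comap_comp_apply, PrimeSpectrum.comap_comp_apply] at this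
    let F : PrimeSpectrum (p.asIdeal.Fiber S₁) →
        PrimeSpectrum.zeroLocus (R := A) (Ideal.span {g} : Set A) := fun x =>
      ⟨PrimeSpectrum.comap φ.toRingHom x, (PrimeSpectrum.mem_zeroLocus _ _).mpr
        ((Ideal.span_singleton_le_iff_mem _).mpr (show φ g ∈ x.asIdeal by rw [hφg]; exact zero_mem _))⟩
    have hF : StrictMono F := Monotone.strictMono_of_injective (fun a b hab => Ideal.comap_mono hab)
      fun a b hab => hinj (congrArg Subtype.val hab)
    have hd : ringKrullDim (p.asIdeal.Fiber S₁) < n := by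
      have h1 : ringKrullDim (p.asIdeal.Fiber S₁) ≤ ringKrullDim (A ⧸ Ideal.span {g}) := by
        rw [ringKrullDim_quotient]
        exact Order.krullDim_le_of_strictMono F hF
      have h2 := ringKrullDim_quotient_succ_le_of_nonZeroDivisor (r := g)
        (mem_nonZeroDivisors_iff_right.mpr fun x hx => hreg.right_eq_zero_of_smul
          (by rwa [smul_eq_mul, mul_comm]))
      have h3 : ringKrullDim (p.asIdeal.Fiber S₁) + 1 < n + 1 := lt_of_le_of_lt
        (le_trans (add_le_add_left h1 1) h2) (by exact_mod_cast h)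
      by_contra hle
      exact absurd (add_le_add_left (not_lt.mp hle) 1) (not_le.mpr h3)
    obtain ⟨T, i1, i2, hT1, hT2, hT3, hT4, ⟨F'⟩⟩ := exists_quasiFinite_at p n S₁ hd
    exact ⟨T, i1, i2, hT1, hT2, hT3, hT4, ⟨F'.comp f⟩⟩

theorem finiteType_pi {ι : Type u} [Finite ι] (T : ι → Type u) [∀ i, CommRing (T i)]
    [∀ i, Algebra R (T i)] [∀ i, Algebra.FiniteType R (T i)] : Algebra.FiniteType R (Π i, T i) := by
  classical
  cases nonempty_fintype ι
  choose G hG using fun i => (Algebra.FiniteType.out (R := R) (A := T i))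
  let U : Finset (Π i, T i) :=
    Finset.univ.biUnion fun i => insert (Pi.single i 1) ((G i).image (Pi.single i))
  have hU : ∀ (i : ι) (y : Π j, T j), y ∈ insert (Pi.single i (1 : T i)) ((G i).image (Pi.single i)) →
      y ∈ Algebra.adjoin R (U : Set (Π j, T j)) := fun i y hy =>
    Algebra.subset_adjoin (Finset.mem_biUnion.mpr ⟨i, Finset.mem_univ i, hy⟩)
  refine ⟨⟨U, Algebra.eq_top_iff.mpr fun f => ?_⟩⟩
  rw [← Finset.univ_sum_single f]
  refine sum_mem fun i _ => ?_
  have hx : f i ∈ Algebra.adjoin R (G i : Set (T i)) := by rw [hG i]; trivial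
  generalize f i = x at hx
  induction hx using Algebra.adjoin_induction with
  | mem x hx => exact hU i _ (Finset.mem_insert_of_mem (Finset.mem_image_of_mem _ hx))
  | algebraMap r =>
    rw [show (Pi.single i (algebraMap R (T i) r) : Π j, T j) = r • Pi.single i (1 : T i) by
      rw [← Pi.single_smul, Algebra.smul_def, mul_one]]
    exact Subalgebra.smul_mem _ (hU i _ (Finset.mem_insert_self _ _)) r
  | add x y _ _ hx hy => rw [Pi.single_add]; exact add_mem hx hy
  | mul x y _ _ hx hy => rw [Pi.single_mul]; exact mul_mem hx hy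

theorem exists_cover [IsNoetherianRing R] [Algebra.FiniteType R S] [Module.FaithfullyFlat R S] :
    ∃ (T : Type u) (_ : CommRing T) (_ : Algebra R T), Algebra.FiniteType R T ∧
      Module.FaithfullyFlat R T ∧ Algebra.QuasiFinite R T ∧ Nonempty (S →ₐ[R] T) := by
  classical
  have hex : ∀ p : PrimeSpectrum R, ∃ (T : Type u) (_ : CommRing T) (_ : Algebra R T),
      Algebra.FiniteType R T ∧ Module.Flat R T ∧ Algebra.QuasiFinite R T ∧
      p ∈ Set.range (PrimeSpectrum.comap (algebraMap R T)) ∧ Nonempty (S →ₐ[R] T) := fun p => by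
    haveI : Nontrivial (p.asIdeal.Fiber S) :=
      (PrimeSpectrum.nontrivial_iff_mem_rangeComap p).mpr
        (PrimeSpectrum.comap_surjective_of_faithfullyFlat p)
    obtain ⟨n, hn⟩ := exists_ringKrullDim_lt p.asIdeal.ResidueField (p.asIdeal.Fiber S)
    exact exists_quasiFinite_at p n S hn
  choose T i1 i2 h1 h2 h3 h4 h5 using hex
  have hopen : ∀ p : PrimeSpectrum R,
      IsOpen (Set.range (PrimeSpectrum.comap (algebraMap R (T p)))) := fun p => by
    haveI := h1 p; haveI := h2 p
    haveI : Algebra.FinitePresentation R (T p) :=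
      Algebra.FinitePresentation.of_finiteType.mp (h1 p)
    exact (PrimeSpectrum.isOpenMap_comap_of_hasGoingDown_of_finitePresentation).isOpen_range
  obtain ⟨t, ht⟩ := isCompact_univ.elim_finite_subcover _ hopen
    fun p _ => Set.mem_iUnion.mpr ⟨p, h4 p⟩
  let P := Π p : t, T p.1
  haveI : ∀ p : t, Algebra.FiniteType R (T p.1) := fun p => h1 p.1
  haveI : ∀ p : t, Module.Flat R (T p.1) := fun p => h2 p.1
  haveI : Algebra.FiniteType R P := finiteType_pi _
  haveI : Module.Flat R P :=
    Module.Flat.of_linearEquiv (DirectSum.linearEquivFunOnFintype R t fun p => T p.1).symm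
  have hspec : ∀ x : PrimeSpectrum P, ∃ (p : t) (y : PrimeSpectrum (T p.1)),
      PrimeSpectrum.comap (Pi.evalRingHom (fun p : t => T p.1) p) y = x := fun x => by
    obtain ⟨⟨p, y⟩, hy⟩ := (PrimeSpectrum.sigmaToPi_bijective fun p : t => T p.1).2 x
    exact ⟨p, y, hy⟩
  haveI : Algebra.QuasiFinite R P := by
    refine Algebra.QuasiFinite.iff_finite_comap_preimage_singleton.mpr fun x => ?_
    refine (Set.finite_iUnion fun p : t => (haveI := h3 p.1;
      (Algebra.QuasiFinite.finite_comap_preimage_singleton (S := T p.1) x).image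
        (PrimeSpectrum.comap (Pi.evalRingHom (fun p : t => T p.1) p)))).subset fun z hz => ?_
    obtain ⟨p, y, rfl⟩ := hspec z
    exact Set.mem_iUnion.mpr ⟨p, y, hz, rfl⟩
  refine ⟨P, inferInstance, inferInstance, inferInstance, ?_, inferInstance,
    ⟨Pi.algHom R (fun p : t => T p.1) fun p => (h5 p.1).some⟩⟩
  refine Module.FaithfullyFlat.of_comap_surjective fun x => ?_
  obtain ⟨p, hp, y, hy⟩ := Set.mem_iUnion₂.mp (ht (Set.mem_univ x))
  exact ⟨PrimeSpectrum.comap (Pi.evalRingHom (fun p : t => T p.1) ⟨p, hp⟩) y, hy⟩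

end Groth.Agent.QFCoverLib
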